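import Cfsg.Agent.ONanCert.Setup
import Cfsg.Agent.ONanCert.HBound.Chain
import Cfsg.Agent.CosetEnum.Upper

/-!
A group generated by six involutions with the relations among the node generators of the presented
O'Nan group has at most 3753792 elements (the enumerations of `ONanCert.HBound`, for any group).
-/

set_option autoImplicit false
set_option maxRecDepth 100000
set_option linter.unusedSectionVars false
set_option linter.unnecessarySeqFocus false

namespace CfsgLib.ONanHExact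

open CfsgLib.CosetEnum CfsgLib.ONanCert.HBound
open CfsgLib.ONanCert (words)

noncomputable section

section

variable {G : Type*} [Group G] (g : ℕ → G) (hs : ∀ x < 6, g x * g x = 1)
  (hw : ∀ w ∈ words, (∀ x ∈ w, x < 6) → prodw g w = 1)

/-- The subgroup on the first letters. -/
def lowSub (k : ℕ) : Subgroup G := Subgroup.closure (g '' {x | x < k})

theorem g_mem_lowSub {x k : ℕ} (h : x < k) : g x ∈ lowSub g k := Subgroup.subset_closure ⟨x, h, rfl⟩

include hs in
theorem hiv {k : ℕ} (hk : k ≤ 6) (x : ℕ) (hx : x < k) : g x = (g x)⁻¹ :=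
  (inv_eq_of_mul_eq_one_right (hs _ (lt_of_lt_of_le hx hk))).symm

include hs hw in
/-- `f = a (c d)^4`. -/
theorem prodw_f : prodw g [0, 2, 3, 2, 3, 2, 3, 2, 3] = g 5 := by
  have h := hw [0, 5, 3, 2, 3, 2, 3, 2, 3, 2] (by decide) (by decide)
  have hr : prodw g [2, 3, 2, 3, 2, 3, 2, 3] = (prodw g [3, 2, 3, 2, 3, 2, 3, 2])⁻¹ :=
    prodw_rev_iv g 6 (fun x => x) (fun x hx _ => hiv g hs le_rfl x hx) [3, 2, 3, 2, 3, 2, 3, 2]
      (by decide)
  rw [prodw_cons, hr]
  rw [prodw_cons, prodw_cons] at h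
  have h1 : g 5 * prodw g [3, 2, 3, 2, 3, 2, 3, 2] = g 0 := by
    rw [hiv g hs le_rfl 0 (by norm_num)]
    exact eq_inv_of_mul_eq_one_right h
  rw [eq_mul_inv_iff_mul_eq.mpr h1]

include hs hw in
theorem rel4 {w : List ℕ} (hwL : w ∈ L1_all.take 15) : prodw g w = 1 := by
  have hcom : ∀ x < 4, g 5 * g x * (g 5 * g x) = 1 := by
    intro x hx
    have h := hw [x, 5, x, 5] (by interval_cases x <;> decide) (by interval_cases x <;> decide)
    have hc : g x * g 5 * (g x * g 5) = 1 := by simpa [prodw, mul_assoc] using h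
    have h' := congrArg (fun z => g 5 * z * g 5) hc
    simp only [mul_one] at h'
    rw [hs 5 (by norm_num)] at h'
    rw [← h']
    have h5 := hs 5 (by norm_num)
    simp only [mul_assoc, h5, mul_one]
  have hcase : (w ∈ words ∧ ∀ x ∈ w, x < 6) ∨
      w = [0, 2, 3, 2, 3, 2, 3, 2, 3] ++ [0, 2, 3, 2, 3, 2, 3, 2, 3] ∨
      ∃ x, x < 4 ∧
        w = [0, 2, 3, 2, 3, 2, 3, 2, 3] ++ [x] ++ ([0, 2, 3, 2, 3, 2, 3, 2, 3] ++ [x]) := by
    clear hcom hw hs; revert w
    decide +kernel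
  rcases hcase with h | rfl | ⟨x, hx, rfl⟩
  · exact hw w h.1 h.2
  · rw [prodw_append, prodw_f g hs hw, hs 5 (by norm_num)]
  · rw [prodw_append, prodw_append, prodw_f g hs hw, show prodw g [x] = g x by simp [prodw]]
    exact hcom x hx

include hs in
/-- One step of the chain. -/
theorem step {k s n d B m : ℕ} {tb : ℕ → ℕ} {parN parX : ℕ} [Finite (lowSub g s)]
    (hk : k ≤ 6) (hd : n ≤ 2 ^ d) (hn : 0 < n) (hm : Nat.card (lowSub g s) ≤ m)
    (hv : allR (validEntry n k tb id) d 0 = true) (hfull : B = 2 ^ (n * k) - 1)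
    (hInv : Inv g (lowSub g s) k tb (crOf g parN parX) B) :
    Finite (lowSub g k) ∧ Nat.card (lowSub g k) ≤ n * m := by
  have h := finite_and_card_le (g := g) (H := lowSub g s) (cr := crOf g parN parX) (B := B)
    (by omega : k ≤ 16) hd hn (hiv g hs hk) (crOf_zero _ _ _) hv hfull hInv
  exact ⟨h.1, h.2.trans (Nat.mul_le_mul_left _ hm)⟩

include hs hw in
theorem L0_rel : ∀ r < 22, prodw g (L0_wd r) = 1 := by
  intro r hr
  refine hw _ ?_ ?_ <;> interval_cases r <;> decide +kernel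

include hs hw in
theorem L0_sub : ∀ r < 26, prodw g (L0_wd r) ∈ lowSub g 4 := by
  intro r hr
  by_cases h : r < 22
  · rw [L0_rel g hs hw r h]
    exact Subgroup.one_mem _
  · obtain ⟨s, hsK, e⟩ : ∃ s, s < 4 ∧ L0_wd r = [s] :=
      ⟨r - 22, by omega, by interval_cases r <;> decide +kernel⟩
    rw [e, prodw_cons, prodw_nil, mul_one]
    exact g_mem_lowSub g hsK

include hs hw in
theorem L0_inv : Inv g (lowSub g 4) 6 L0_tb (crOf g L0_parN L0_parX) L0_B12 := by
  have h0 : Inv g (lowSub g 4) 6 L0_tb (crOf g L0_parN L0_parX) L0_B0 :=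
    L0_step0 ▸ runTree_sound (fun x hx _ => hiv g hs (by norm_num) x hx) (crOf_step _ _ _) _
  have h1 : Inv g (lowSub g 4) 6 L0_tb (crOf g L0_parN L0_parX) L0_B1 :=
    L0_step1 ▸ runDed_sound (fun x hx _ => hiv g hs (by norm_num) x hx) (crOf_zero _ _ _)
      (L0_rel g hs hw) (L0_sub g hs hw) h0
  have h2 : Inv g (lowSub g 4) 6 L0_tb (crOf g L0_parN L0_parX) L0_B2 :=
    L0_step2 ▸ runDed_sound (fun x hx _ => hiv g hs (by norm_num) x hx) (crOf_zero _ _ _)
      (L0_rel g hs hw) (L0_sub g hs hw) h1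
  have h3 : Inv g (lowSub g 4) 6 L0_tb (crOf g L0_parN L0_parX) L0_B3 :=
    L0_step3 ▸ runDed_sound (fun x hx _ => hiv g hs (by norm_num) x hx) (crOf_zero _ _ _)
      (L0_rel g hs hw) (L0_sub g hs hw) h2
  have h4 : Inv g (lowSub g 4) 6 L0_tb (crOf g L0_parN L0_parX) L0_B4 :=
    L0_step4 ▸ runDed_sound (fun x hx _ => hiv g hs (by norm_num) x hx) (crOf_zero _ _ _)
      (L0_rel g hs hw) (L0_sub g hs hw) h3
  have h5 : Inv g (lowSub g 4) 6 L0_tb (crOf g L0_parN L0_parX) L0_B5 :=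
    L0_step5 ▸ runDed_sound (fun x hx _ => hiv g hs (by norm_num) x hx) (crOf_zero _ _ _)
      (L0_rel g hs hw) (L0_sub g hs hw) h4
  have h6 : Inv g (lowSub g 4) 6 L0_tb (crOf g L0_parN L0_parX) L0_B6 :=
    L0_step6 ▸ runDed_sound (fun x hx _ => hiv g hs (by norm_num) x hx) (crOf_zero _ _ _)
      (L0_rel g hs hw) (L0_sub g hs hw) h5
  have h7 : Inv g (lowSub g 4) 6 L0_tb (crOf g L0_parN L0_parX) L0_B7 :=
    L0_step7 ▸ runDed_sound (fun x hx _ => hiv g hs (by norm_num) x hx) (crOf_zero _ _ _)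
      (L0_rel g hs hw) (L0_sub g hs hw) h6
  have h8 : Inv g (lowSub g 4) 6 L0_tb (crOf g L0_parN L0_parX) L0_B8 :=
    L0_step8 ▸ runDed_sound (fun x hx _ => hiv g hs (by norm_num) x hx) (crOf_zero _ _ _)
      (L0_rel g hs hw) (L0_sub g hs hw) h7
  have h9 : Inv g (lowSub g 4) 6 L0_tb (crOf g L0_parN L0_parX) L0_B9 :=
    L0_step9 ▸ runDed_sound (fun x hx _ => hiv g hs (by norm_num) x hx) (crOf_zero _ _ _)
      (L0_rel g hs hw) (L0_sub g hs hw) h8
  have h10 : Inv g (lowSub g 4) 6 L0_tb (crOf g L0_parN L0_parX) L0_B10 :=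
    L0_step10 ▸ runDed_sound (fun x hx _ => hiv g hs (by norm_num) x hx) (crOf_zero _ _ _)
      (L0_rel g hs hw) (L0_sub g hs hw) h9
  have h11 : Inv g (lowSub g 4) 6 L0_tb (crOf g L0_parN L0_parX) L0_B11 :=
    L0_step11 ▸ runDed_sound (fun x hx _ => hiv g hs (by norm_num) x hx) (crOf_zero _ _ _)
      (L0_rel g hs hw) (L0_sub g hs hw) h10
  have h12 : Inv g (lowSub g 4) 6 L0_tb (crOf g L0_parN L0_parX) L0_B12 :=
    L0_step12 ▸ runDed_sound (fun x hx _ => hiv g hs (by norm_num) x hx) (crOf_zero _ _ _)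
      (L0_rel g hs hw) (L0_sub g hs hw) h11
  exact h12

include hs hw in
theorem L1_rel : ∀ r < 15, prodw g (L1_wd r) = 1 := by
  intro r hr
  refine rel4 g hs hw ?_
  interval_cases r <;> decide +kernel

include hs hw in
theorem L1_sub : ∀ r < 18, prodw g (L1_wd r) ∈ lowSub g 3 := by
  intro r hr
  by_cases h : r < 15
  · rw [L1_rel g hs hw r h]
    exact Subgroup.one_mem _
  · obtain ⟨s, hsK, e⟩ : ∃ s, s < 3 ∧ L1_wd r = [s] :=
      ⟨r - 15, by omega, by interval_cases r <;> decide +kernel⟩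
    rw [e, prodw_cons, prodw_nil, mul_one]
    exact g_mem_lowSub g hsK

include hs hw in
theorem L1_inv : Inv g (lowSub g 3) 4 L1_tb (crOf g L1_parN L1_parX) L1_B1 := by
  have h0 : Inv g (lowSub g 3) 4 L1_tb (crOf g L1_parN L1_parX) L1_B0 :=
    L1_step0 ▸ runTree_sound (fun x hx _ => hiv g hs (by norm_num) x hx) (crOf_step _ _ _) _
  have h1 : Inv g (lowSub g 3) 4 L1_tb (crOf g L1_parN L1_parX) L1_B1 :=
    L1_step1 ▸ runDed_sound (fun x hx _ => hiv g hs (by norm_num) x hx) (crOf_zero _ _ _)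
      (L1_rel g hs hw) (L1_sub g hs hw) h0
  exact h1

include hs hw in
theorem L2_rel : ∀ r < 6, prodw g (L2_wd r) = 1 := by
  intro r hr
  refine hw _ ?_ ?_ <;> interval_cases r <;> decide +kernel

include hs hw in
theorem L2_sub : ∀ r < 8, prodw g (L2_wd r) ∈ lowSub g 2 := by
  intro r hr
  by_cases h : r < 6
  · rw [L2_rel g hs hw r h]
    exact Subgroup.one_mem _
  · obtain ⟨s, hsK, e⟩ : ∃ s, s < 2 ∧ L2_wd r = [s] :=
      ⟨r - 6, by omega, by interval_cases r <;> decide +kernel⟩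
    rw [e, prodw_cons, prodw_nil, mul_one]
    exact g_mem_lowSub g hsK

include hs hw in
theorem L2_inv : Inv g (lowSub g 2) 3 L2_tb (crOf g L2_parN L2_parX) L2_B1 := by
  have h0 : Inv g (lowSub g 2) 3 L2_tb (crOf g L2_parN L2_parX) L2_B0 :=
    L2_step0 ▸ runTree_sound (fun x hx _ => hiv g hs (by norm_num) x hx) (crOf_step _ _ _) _
  have h1 : Inv g (lowSub g 2) 3 L2_tb (crOf g L2_parN L2_parX) L2_B1 :=
    L2_step1 ▸ runDed_sound (fun x hx _ => hiv g hs (by norm_num) x hx) (crOf_zero _ _ _)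
      (L2_rel g hs hw) (L2_sub g hs hw) h0
  exact h1

include hs hw in
theorem L3_rel : ∀ r < 3, prodw g (L3_wd r) = 1 := by
  intro r hr
  refine hw _ ?_ ?_ <;> interval_cases r <;> decide +kernel

include hs hw in
theorem L3_sub : ∀ r < 4, prodw g (L3_wd r) ∈ lowSub g 1 := by
  intro r hr
  by_cases h : r < 3
  · rw [L3_rel g hs hw r h]
    exact Subgroup.one_mem _
  · obtain ⟨s, hsK, e⟩ : ∃ s, s < 1 ∧ L3_wd r = [s] :=
      ⟨r - 3, by omega, by interval_cases r <;> decide +kernel⟩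
    rw [e, prodw_cons, prodw_nil, mul_one]
    exact g_mem_lowSub g hsK

include hs hw in
theorem L3_inv : Inv g (lowSub g 1) 2 L3_tb (crOf g L3_parN L3_parX) L3_B1 := by
  have h0 : Inv g (lowSub g 1) 2 L3_tb (crOf g L3_parN L3_parX) L3_B0 :=
    L3_step0 ▸ runTree_sound (fun x hx _ => hiv g hs (by norm_num) x hx) (crOf_step _ _ _) _
  have h1 : Inv g (lowSub g 1) 2 L3_tb (crOf g L3_parN L3_parX) L3_B1 :=
    L3_step1 ▸ runDed_sound (fun x hx _ => hiv g hs (by norm_num) x hx) (crOf_zero _ _ _)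
      (L3_rel g hs hw) (L3_sub g hs hw) h0
  exact h1

include hs hw in
theorem L4_rel : ∀ r < 1, prodw g (L4_wd r) = 1 := by
  intro r hr
  refine hw _ ?_ ?_ <;> interval_cases r <;> decide +kernel

include hs hw in
theorem L4_sub : ∀ r < 1, prodw g (L4_wd r) ∈ lowSub g 0 := by
  intro r hr
  by_cases h : r < 1
  · rw [L4_rel g hs hw r h]
    exact Subgroup.one_mem _
  · omega

include hs hw in
theorem L4_inv : Inv g (lowSub g 0) 1 L4_tb (crOf g L4_parN L4_parX) L4_B0 := by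
  have h0 : Inv g (lowSub g 0) 1 L4_tb (crOf g L4_parN L4_parX) L4_B0 :=
    L4_step0 ▸ runTree_sound (fun x hx _ => hiv g hs (by norm_num) x hx) (crOf_step _ _ _) _
  exact h0

include hs hw in
theorem low_zero : Finite (lowSub g 0) ∧ Nat.card (lowSub g 0) ≤ 1 := by
  have h : lowSub g 0 = ⊥ := by simp [lowSub]
  rw [h]
  exact ⟨inferInstance, le_of_eq Subgroup.card_bot⟩

include hs hw in
theorem low_one : Finite (lowSub g 1) ∧ Nat.card (lowSub g 1) ≤ 2 :=
  haveI := (low_zero g hs hw).1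
  step g hs (d := 1) (by norm_num) (by norm_num) (by norm_num) (low_zero g hs hw).2 L4_valid L4_full (L4_inv g hs hw)

include hs hw in
theorem low_two : Finite (lowSub g 2) ∧ Nat.card (lowSub g 2) ≤ 6 :=
  haveI := (low_one g hs hw).1
  step g hs (d := 2) (by norm_num) (by norm_num) (by norm_num) (low_one g hs hw).2 L3_valid L3_full (L3_inv g hs hw)

include hs hw in
theorem low_three : Finite (lowSub g 3) ∧ Nat.card (lowSub g 3) ≤ 24 :=
  haveI := (low_two g hs hw).1
  step g hs (d := 2) (by norm_num) (by norm_num) (by norm_num) (low_two g hs hw).2 L2_valid L2_full (L2_inv g hs hw)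

include hs hw in
theorem low_four : Finite (lowSub g 4) ∧ Nat.card (lowSub g 4) ≤ 672 :=
  haveI := (low_three g hs hw).1
  step g hs (d := 5) (by norm_num) (by norm_num) (by norm_num) (low_three g hs hw).2 L1_valid L1_full (L1_inv g hs hw)

include hs hw in
theorem low_six : Finite (lowSub g 6) ∧ Nat.card (lowSub g 6) ≤ 3753792 :=
  haveI := (low_four g hs hw).1
  step g hs (d := 13) (by norm_num) (by norm_num) (by norm_num) (low_four g hs hw).2 L0_valid L0_full (L0_inv g hs hw)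

include hs hw in
/-- The bound. -/
theorem finite_and_card : Finite (lowSub g 6) ∧ Nat.card (lowSub g 6) ≤ 3753792 := low_six g hs hw

end

end

end CfsgLib.ONanHExact
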