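import Cfsg.Agent.CosetEnum.Engine
import Cfsg.Agent.Linear.Basic
import Cfsg.Agent.ONanCert.Setup
import Mathlib.GroupTheory.SemidirectProduct

/-!
`L₃(7)` extended by inverse transpose, with six involutions satisfying the relations among the node
generators of the presented O'Nan group.
-/

set_option autoImplicit false
set_option maxRecDepth 100000

namespace CfsgLib.ONanHExact

open CfsgLib.CosetEnum
open CfsgLib.ONanCert (words)

/-- `SL₃(7)`. -/
abbrev S7 : Type := Matrix.SpecialLinearGroup (Fin 3) (ZMod 7)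

/-- `L₃(7)`. -/
abbrev P7 : Type := Matrix.ProjectiveSpecialLinearGroup (Fin 3) (ZMod 7)

/-- Inverse transpose. -/
def tauHom : S7 →* S7 where
  toFun A := ⟨(A⁻¹).1.transpose, by rw [Matrix.det_transpose, (A⁻¹).2]⟩
  map_one' := Subtype.ext (by simp)
  map_mul' A B := Subtype.ext (by
    show ((A * B)⁻¹).1.transpose = (A⁻¹).1.transpose * (B⁻¹).1.transpose
    rw [mul_inv_rev, Matrix.SpecialLinearGroup.coe_mul, Matrix.transpose_mul])

theorem tauHom_tauHom (A : S7) : tauHom (tauHom A) = A := by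
  have h : ((tauHom A)⁻¹ : S7) = ⟨A.1.transpose, by rw [Matrix.det_transpose, A.2]⟩ := by
    refine inv_eq_of_mul_eq_one_right (Subtype.ext ?_)
    show (A⁻¹).1.transpose * A.1.transpose = 1
    rw [← Matrix.transpose_mul, ← Matrix.SpecialLinearGroup.coe_mul, mul_inv_cancel,
      Matrix.SpecialLinearGroup.coe_one, Matrix.transpose_one]
  refine Subtype.ext ?_
  show ((tauHom A)⁻¹).1.transpose = A.1
  rw [h]
  exact Matrix.transpose_transpose _

/-- Inverse transpose as an automorphism. -/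
def tauSL : MulAut S7 where
  toFun := tauHom
  invFun := tauHom
  left_inv := tauHom_tauHom
  right_inv := tauHom_tauHom
  map_mul' := map_mul tauHom

theorem map_center : (Subgroup.center S7).map tauSL.toMonoidHom = Subgroup.center S7 := by
  ext z
  simp only [Subgroup.mem_map, Subgroup.mem_center_iff]
  constructor
  · rintro ⟨w, hw, rfl⟩ g
    obtain ⟨g', rfl⟩ := tauSL.surjective g
    show tauSL g' * tauSL w = tauSL w * tauSL g'
    rw [← map_mul, ← map_mul, hw]
  · intro hz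
    refine ⟨tauSL z, fun g => tauSL.injective ?_, tauHom_tauHom z⟩
    rw [map_mul, map_mul, show tauSL (tauSL z) = z from tauHom_tauHom z, hz]

/-- Inverse transpose on `L₃(7)`. -/
noncomputable def tau : MulAut P7 := QuotientGroup.congr _ _ tauSL map_center

theorem tau_mk (A : S7) : tau (QuotientGroup.mk A) = QuotientGroup.mk (tauHom A) := rfl

theorem tau_sq : tau * tau = 1 := by
  refine MulEquiv.ext fun p => ?_
  obtain ⟨A, rfl⟩ := QuotientGroup.mk_surjective p
  rw [MulAut.mul_apply, MulAut.one_apply]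
  show tau (tau (QuotientGroup.mk A)) = QuotientGroup.mk A
  rw [tau_mk, tau_mk, tauHom_tauHom]

/-- The two element group acting. -/
noncomputable def actC : Multiplicative (ZMod 2) →* MulAut P7 where
  toFun z := if z = 1 then 1 else tau
  map_one' := if_pos rfl
  map_mul' a b := by
    have h : ∀ a : Multiplicative (ZMod 2), a = 1 ∨ a = Multiplicative.ofAdd 1 := by decide
    have hne : (Multiplicative.ofAdd (1 : ZMod 2)) ≠ 1 := by decide
    have h2 : Multiplicative.ofAdd (1 : ZMod 2) * Multiplicative.ofAdd (1 : ZMod 2) = 1 := by decide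
    rcases h a with rfl | rfl <;> rcases h b with rfl | rfl <;> simp [hne, tau_sq]
    intro h'
    exact absurd h2 h'

/-- `L₃(7):2`. -/
abbrev W7 : Type := P7 ⋊[actC] Multiplicative (ZMod 2)

/-! ### Coded matrices -/

/-- An entry of a product. -/
def entM (A B : List ℕ) (i j : ℕ) : ℕ :=
  Nat.mod (A.getD (3 * i) 0 * B.getD j 0 + A.getD (3 * i + 1) 0 * B.getD (3 + j) 0 +
    A.getD (3 * i + 2) 0 * B.getD (6 + j) 0) 7

/-- The product of coded matrices. -/
def mulM (A B : List ℕ) : List ℕ :=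
  force (entM A B 0 0) fun a => force (entM A B 0 1) fun b => force (entM A B 0 2) fun c =>
  force (entM A B 1 0) fun d => force (entM A B 1 1) fun e => force (entM A B 1 2) fun f =>
  force (entM A B 2 0) fun g => force (entM A B 2 1) fun h => force (entM A B 2 2) fun i =>
    [a, b, c, d, e, f, g, h, i]

/-- The matrix of a code. -/
def toM3 (A : List ℕ) : Matrix (Fin 3) (Fin 3) (ZMod 7) :=
  Matrix.of fun i j => (A.getD (3 * i.1 + j.1) 0 : ZMod 7)

theorem toM3_mul (A B : List ℕ) : toM3 (mulM A B) = toM3 A * toM3 B := by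
  have hc : ∀ i j, ((entM A B i j : ℕ) : ZMod 7) = (A.getD (3 * i) 0 : ZMod 7) * B.getD j 0 +
      (A.getD (3 * i + 1) 0 : ZMod 7) * B.getD (3 + j) 0 +
      (A.getD (3 * i + 2) 0 : ZMod 7) * B.getD (6 + j) 0 := fun i j => by
    show ((_ % 7 : ℕ) : ZMod 7) = _
    rw [ZMod.natCast_mod]
    push_cast
    rfl
  ext i j
  rw [Matrix.mul_apply, Fin.sum_univ_three]
  simp only [mulM, force_eq, toM3, Matrix.of_apply]
  fin_cases i <;> fin_cases j <;> exact (hc _ _)

/-- The identity code. -/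
def oneM : List ℕ := [1, 0, 0, 0, 1, 0, 0, 0, 1]

/-- The symmetric matrices of the six generators. -/
def sC (k : ℕ) : List ℕ :=
  [[1, 0, 0, 0, 1, 0, 0, 0, 1], [1, 0, 0, 0, 2, 0, 0, 0, 4], [1, 2, 2, 2, 1, 5, 2, 5, 1],
    [0, 0, 3, 0, 3, 0, 3, 0, 0], [0, 1, 0, 1, 0, 0, 0, 0, 6], [0, 0, 1, 0, 6, 0, 1, 0, 0]].getD k oneM

theorem det_sC (k : ℕ) : (toM3 (sC k)).det = 1 := by
  by_cases h : k < 6
  · interval_cases k <;> decide +kernel
  · rw [sC, List.getD_eq_default _ _ (by simp; omega)]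
    decide +kernel

/-- The matrices. -/
def sSL (k : ℕ) : S7 := ⟨toM3 (sC k), det_sC k⟩

/-- The inverse matrices. -/
def tC (k : ℕ) : List ℕ :=
  [[1, 0, 0, 0, 1, 0, 0, 0, 1], [1, 0, 0, 0, 4, 0, 0, 0, 2], [4, 1, 1, 1, 4, 6, 1, 6, 4],
    [0, 0, 5, 0, 5, 0, 5, 0, 0], [0, 1, 0, 1, 0, 0, 0, 0, 6], [0, 0, 1, 0, 6, 0, 1, 0, 0]].getD k oneM

theorem tau_sSL (k : ℕ) : (tauHom (sSL k)).1 = toM3 (tC k) := by
  have hsym : (toM3 (sC k)).transpose = toM3 (sC k) ∧ toM3 (sC k) * toM3 (tC k) = 1 ∧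
      (toM3 (tC k)).transpose = toM3 (tC k) := by
    by_cases h : k < 6
    · interval_cases k <;> decide +kernel
    · rw [sC, tC, List.getD_eq_default _ _ (by simp; omega), List.getD_eq_default _ _ (by simp; omega)]
      decide +kernel
  have hd : (toM3 (tC k)).det = 1 := by
    have h := congrArg Matrix.det hsym.2.1
    rwa [Matrix.det_mul, det_sC, one_mul, Matrix.det_one] at h
  have hi : (sSL k)⁻¹ = ⟨toM3 (tC k), hd⟩ :=
    inv_eq_of_mul_eq_one_right (Subtype.ext hsym.2.1)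
  show ((sSL k)⁻¹).1.transpose = _
  rw [hi]
  exact hsym.2.2

/-- The six involutions. -/
noncomputable def gW (k : ℕ) : W7 := ⟨QuotientGroup.mk (sSL k), Multiplicative.ofAdd 1⟩

/-- The left part of a word of even length. -/
def pairsM : List ℕ → List ℕ
  | a :: b :: w => mulM (mulM (sC a) (tC b)) (pairsM w)
  | _ => oneM

theorem prodw_gW : ∀ w : List ℕ, w.length % 2 = 0 →
    ∃ A : S7, A.1 = toM3 (pairsM w) ∧
      prodw gW w = SemidirectProduct.inl (QuotientGroup.mk A)
  | [], _ => ⟨1, by rw [Matrix.SpecialLinearGroup.coe_one]; decide +kernel,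
      by simp [prodw]⟩
  | [_], h => by simp at h
  | a :: b :: w, h => by
    obtain ⟨A, hA, hw⟩ := prodw_gW w (by simp at h; omega)
    refine ⟨sSL a * tauHom (sSL b) * A, ?_, ?_⟩
    · rw [Matrix.SpecialLinearGroup.coe_mul, Matrix.SpecialLinearGroup.coe_mul, tau_sSL, hA, pairsM,
        toM3_mul, toM3_mul]
      rfl
    · rw [prodw_cons, prodw_cons, hw, QuotientGroup.mk_mul, QuotientGroup.mk_mul, map_mul,
        ← mul_assoc]
      congr 1
      refine SemidirectProduct.ext ?_ ?_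
      · rw [SemidirectProduct.mul_left, SemidirectProduct.left_inl]
        show _ * (if Multiplicative.ofAdd (1 : ZMod 2) = 1 then (1 : MulAut P7) else tau) _ = _
        rw [if_neg (by decide)]
        rfl
      · rw [SemidirectProduct.mul_right, SemidirectProduct.right_inl]
        show Multiplicative.ofAdd (1 : ZMod 2) * Multiplicative.ofAdd 1 = 1
        decide

/-- The code is a scalar matrix of determinant one. -/
def scalarM (A : List ℕ) : Bool :=
  A == oneM || A == [2, 0, 0, 0, 2, 0, 0, 0, 2] || A == [4, 0, 0, 0, 4, 0, 0, 0, 4]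

theorem mk_eq_one_of_scalar {A : S7} {c : List ℕ} (hA : A.1 = toM3 c) (h : scalarM c = true) :
    (QuotientGroup.mk A : P7) = 1 := by
  refine (QuotientGroup.eq_one_iff A).2 (Subgroup.mem_center_iff.2 fun B => ?_)
  obtain ⟨s, hs⟩ : ∃ s : ZMod 7, toM3 c = Matrix.scalar (Fin 3) s := by
    simp only [scalarM, Bool.or_eq_true, beq_iff_eq] at h
    rcases h with (rfl | rfl) | rfl
    exacts [⟨1, by decide +kernel⟩, ⟨2, by decide +kernel⟩, ⟨4, by decide +kernel⟩]
  refine Subtype.ext ?_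
  rw [Matrix.SpecialLinearGroup.coe_mul, Matrix.SpecialLinearGroup.coe_mul, hA, hs]
  exact (Matrix.scalar_commute s (fun _ => mul_comm _ _) B.1).eq.symm

/-- The relators among the six node generators. -/
def words6 : List (List ℕ) := words.filter fun w => w.all fun x => decide (x < 6)

theorem words6_check : (words6.all fun w => decide (w.length % 2 = 0) && scalarM (pairsM w)) = true := by
  decide +kernel

theorem rel_gW {w : List ℕ} (hw : w ∈ words6) : prodw gW w = 1 := by
  have h := List.all_eq_true.1 words6_check w hw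
  simp only [Bool.and_eq_true, decide_eq_true_eq] at h
  obtain ⟨A, hA, e⟩ := prodw_gW w h.1
  rw [e, mk_eq_one_of_scalar hA h.2, map_one]

/-- Words for the transvections, with their positions. -/
def transWords : List (Fin 3 × Fin 3 × List ℕ) := [
  (0, 1, [0, 1, 2, 3, 2, 1, 3, 4, 3, 2, 1, 3, 2, 1, 4, 3, 2, 1, 0, 3, 2, 4, 3, 2, 1, 0]),
  (0, 2, [1, 0, 2, 4, 3, 2, 1, 5, 4, 3, 2, 1, 3, 2, 1, 3, 4, 3, 2, 1, 3, 2, 4, 3, 2, 1, 5, 4]),
  (1, 0, [1, 0, 2, 3, 2, 1, 4, 3, 2, 1, 3, 2, 1, 3, 4, 3, 2, 1, 3, 2, 4, 3, 2, 1]),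
  (1, 2, [0, 1, 0, 3, 2, 3, 2, 1, 4, 3, 2, 1, 3, 2, 1, 3, 4, 3, 2, 1, 3, 2, 4, 3, 2, 1, 0, 3]),
  (2, 0, [0, 1, 0, 4, 3, 2, 3, 2, 1, 4, 3, 2, 1, 3, 2, 1, 3, 4, 3, 2, 1, 3, 2, 4, 3, 2, 1, 0, 3, 4]),
  (2, 1, [1, 0, 2, 3, 2, 1, 5, 4, 3, 2, 1, 3, 2, 1, 3, 4, 3, 2, 1, 3, 2, 4, 3, 2, 1, 5])]

/-- The code of a transvection up to a scalar. -/
def transOK (i j : Fin 3) (A : List ℕ) : Bool :=
  [1, 2, 4].any fun c => A == (List.range 9).map fun k =>
    if k = 0 ∨ k = 4 ∨ k = 8 then c else if k = 3 * i.1 + j.1 then c else 0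

theorem trans_check : (transWords.all fun t => decide (t.2.2.length % 2 = 0) &&
    transOK t.1 t.2.1 (pairsM t.2.2) && t.2.2.all fun x => decide (x < 6)) = true := by
  decide +kernel

end CfsgLib.ONanHExact
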