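import Cfsg.Agent.ONanHExact.Bound
import Cfsg.Agent.ONanHExact.Model
import Cfsg.Agent.ONanAct.Lower
import Cfsg.Agent.SL3Pres.Concrete
import Mathlib.GroupTheory.PresentedGroup

/-!
The subgroup of the six nodes of the presented O'Nan group is `L₃(7):2`: the group on six letters
with their relations has at most 3753792 elements, maps onto `L₃(7):2`, and the action on 122760
points shows that many elements in the subgroup.
-/

set_option autoImplicit false
set_option maxRecDepth 100000
set_option linter.style.haveILetI false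

namespace CfsgLib.ONanHExact

instance fact_seven : Fact (Nat.Prime 7) := ⟨by norm_num⟩

open CfsgLib.CosetEnum
open CfsgLib.ONanCert (words)

/-- A letter as a free generator. -/
def fl (x : ℕ) : FreeGroup (Fin 6) := if h : x < 6 then FreeGroup.of ⟨x, h⟩ else 1

/-- The group on six letters with the relators among them. -/
abbrev K6 : Type := PresentedGroup {r : FreeGroup (Fin 6) | r ∈ words6.map (prodw fl)}

/-- The letters. -/
def gK (x : ℕ) : K6 := if h : x < 6 then PresentedGroup.of ⟨x, h⟩ else 1

theorem map_prodw {A B : Type*} [Group A] [Group B] (φ : A →* B) (f : ℕ → A) (w : List ℕ) :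
    φ (prodw f w) = prodw (fun x => φ (f x)) w := by
  rw [prodw, prodw, map_list_prod, List.map_map]
  rfl

theorem prodw_congr6 {A : Type*} [Group A] {f f' : ℕ → A} (h : ∀ x < 6, f x = f' x) {w : List ℕ}
    (hw : ∀ x ∈ w, x < 6) : prodw f w = prodw f' w :=
  congrArg List.prod (List.map_congr_left fun x hx => h x (hw x hx))

theorem mem_words6 {w : List ℕ} : w ∈ words6 ↔ w ∈ words ∧ ∀ x ∈ w, x < 6 := by
  simp [words6, List.mem_filter, List.all_eq_true]

theorem gK_eq (x : ℕ) : gK x = PresentedGroup.mk {r | r ∈ words6.map (prodw fl)} (fl x) := by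
  by_cases h : x < 6
  · rw [gK, fl, dif_pos h, dif_pos h]; rfl
  · rw [gK, fl, dif_neg h, dif_neg h, map_one]

theorem gK_rel (w : List ℕ) (hw : w ∈ words) (h6 : ∀ x ∈ w, x < 6) : prodw gK w = 1 := by
  rw [prodw_congr6 (fun x _ => gK_eq x) h6, ← map_prodw]
  exact PresentedGroup.one_of_mem (List.mem_map_of_mem (mem_words6.2 ⟨hw, h6⟩))

theorem gK_sq (x : ℕ) (hx : x < 6) : gK x * gK x = 1 := by
  have h := gK_rel [x, x] (by interval_cases x <;> decide) (by simp; omega)
  simpa [prodw] using h

theorem closure_gK : lowSub gK 6 = ⊤ := by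
  rw [eq_top_iff, ← PresentedGroup.closure_range_of, Subgroup.closure_le]
  rintro _ ⟨i, rfl⟩
  refine g_mem_lowSub gK i.2 |> (fun h => ?_)
  rwa [gK, dif_pos i.2] at h

theorem card_K6 : Finite K6 ∧ Nat.card K6 ≤ 3753792 := by
  have h := finite_and_card gK gK_sq gK_rel
  rw [closure_gK] at h
  obtain ⟨hf, hc⟩ := h
  exact ⟨Finite.of_equiv _ Subgroup.topEquiv.toEquiv, Subgroup.card_top (G := K6) ▸ hc⟩

/-- The map to a group with six such elements. -/
def lift6 {A : Type*} [Group A] (f : ℕ → A)
    (hf : ∀ w ∈ words6, prodw f w = 1) : K6 →* A :=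
  PresentedGroup.toGroup (f := fun i : Fin 6 => f i.1) (fun r hr => by
    obtain ⟨w, hw, rfl⟩ := List.mem_map.1 hr
    rw [map_prodw]
    refine Eq.trans (prodw_congr6 (fun x hx => ?_) (mem_words6.1 hw).2) (hf w hw)
    rw [fl, dif_pos hx, FreeGroup.lift_apply_of])

theorem lift6_gK {A : Type*} [Group A] (f : ℕ → A) (hf : ∀ w ∈ words6, prodw f w = 1) {x : ℕ}
    (hx : x < 6) : lift6 f hf (gK x) = f x := by
  rw [gK, dif_pos hx]
  exact PresentedGroup.toGroup.of _

/-- The map onto `L₃(7):2`. -/
noncomputable def theta : K6 →* W7 := lift6 gW fun _ hw => rel_gW hw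

theorem gW_mem_range {x : ℕ} (hx : x < 6) : gW x ∈ theta.range :=
  ⟨gK x, lift6_gK _ _ hx⟩

theorem inl_mem_range (p : P7) : SemidirectProduct.inl p ∈ theta.range := by
  obtain ⟨A, rfl⟩ := QuotientGroup.mk_surjective p
  let T : Subgroup S7 :=
    (theta.range.comap (SemidirectProduct.inl : P7 →* W7)).comap (QuotientGroup.mk' _)
  suffices h : T = ⊤ from (h.ge (Subgroup.mem_top A) : A ∈ T)
  apply CfsgLib.Linear.sl_eq_top_of_transvections
  intro i j hij a
  have hone : Matrix.SpecialLinearGroup.transvection hij (1 : ZMod 7) ∈ T := by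
    obtain ⟨w, hw⟩ : ∃ w, (i, j, w) ∈ transWords := by
      have key : ∀ i j : Fin 3, i ≠ j →
          ∃ k : Fin transWords.length, transWords[k].1 = i ∧ transWords[k].2.1 = j := by decide
      obtain ⟨k, hk1, hk2⟩ := key i j hij
      exact ⟨transWords[k].2.2, by subst hk1; subst hk2; exact List.getElem_mem k.2⟩
    have h := List.all_eq_true.1 trans_check _ hw
    simp only [Bool.and_eq_true, decide_eq_true_eq, List.all_eq_true] at h
    obtain ⟨⟨hlen, hok⟩, h6⟩ := h
    obtain ⟨B, hB, e⟩ := prodw_gW w hlen
    have hm : SemidirectProduct.inl (QuotientGroup.mk B : P7) ∈ theta.range := by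
      rw [← e]
      exact ⟨prodw gK w, by rw [map_prodw]; exact prodw_congr6 (fun x hx => lift6_gK _ _ hx) h6⟩
    have e2 : (QuotientGroup.mk B : P7) =
        QuotientGroup.mk (Matrix.SpecialLinearGroup.transvection hij (1 : ZMod 7)) := by
      simp only [transOK, List.any_eq_true, beq_iff_eq] at hok
      obtain ⟨c, hc, hc'⟩ := hok
      obtain ⟨d, hd, hd'⟩ : ∃ d : List ℕ, scalarM d = true ∧
          toM3 (pairsM w) = Matrix.transvection i j (1 : ZMod 7) * toM3 d := by
        refine ⟨[c, 0, 0, 0, c, 0, 0, 0, c], ?_, ?_⟩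
        · simp at hc
          rcases hc with rfl | rfl | rfl <;> decide
        · rw [hc']
          revert hij
          clear hB e hm hw h6 hlen hc'
          simp at hc
          rcases hc with rfl | rfl | rfl <;> revert i j <;> decide +kernel
      obtain ⟨D, hD⟩ : ∃ D : S7, D.1 = toM3 d := by
        refine ⟨⟨toM3 d, ?_⟩, rfl⟩
        simp only [scalarM, Bool.or_eq_true, beq_iff_eq] at hd
        rcases hd with (rfl | rfl) | rfl <;> decide +kernel
      have : B = Matrix.SpecialLinearGroup.transvection hij (1 : ZMod 7) * D :=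
        Subtype.ext (by rw [hB, hd', Matrix.SpecialLinearGroup.coe_mul, hD]; rfl)
      rw [this, QuotientGroup.mk_mul, mk_eq_one_of_scalar hD hd, mul_one]
    show SemidirectProduct.inl _ ∈ theta.range
    rw [e2] at hm
    exact hm
  have hnat : ∀ n : ℕ, Matrix.SpecialLinearGroup.transvection hij (n : ZMod 7) ∈ T := by
    intro n
    induction n with
    | zero => rw [Nat.cast_zero, Matrix.SpecialLinearGroup.transvection_coeff_zero]; exact one_mem T
    | succ n ih =>
      have : Matrix.SpecialLinearGroup.transvection hij ((n + 1 : ℕ) : ZMod 7) =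
          Matrix.SpecialLinearGroup.transvection hij (n : ZMod 7) *
            Matrix.SpecialLinearGroup.transvection hij (1 : ZMod 7) := by
        refine Subtype.ext ?_
        rw [Matrix.SpecialLinearGroup.coe_mul, Nat.cast_succ]
        exact (Matrix.transvection_mul_transvection_same _ _ hij _ _).symm
      rw [this]
      exact mul_mem ih hone
  simpa using hnat a.val

theorem theta_surjective : Function.Surjective theta := by
  rw [← MonoidHom.range_eq_top, eq_top_iff]
  rintro ⟨p, z⟩ -
  have hz : z = 1 ∨ z = Multiplicative.ofAdd 1 := by revert z; decide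
  rcases hz with rfl | rfl
  · exact inl_mem_range p
  · have e : (⟨p, Multiplicative.ofAdd 1⟩ : W7) =
        SemidirectProduct.inl (p * (QuotientGroup.mk (sSL 0))⁻¹) * gW 0 := by
      refine SemidirectProduct.ext ?_ ?_
      · rw [SemidirectProduct.mul_left, SemidirectProduct.left_inl, SemidirectProduct.right_inl,
          MonoidHom.map_one, MulAut.one_apply]
        exact (inv_mul_cancel_right p (QuotientGroup.mk (sSL 0) : P7)).symm
      · rw [SemidirectProduct.mul_right, SemidirectProduct.right_inl, one_mul]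
        rfl
    rw [e]
    exact mul_mem (inl_mem_range _) (gW_mem_range (by norm_num))

theorem card_W7 : Nat.card W7 = 3753792 := by
  have hS : Nat.card S7 = 5630688 := by
    rw [SL3Pres.card_SL_three, ZMod.card]
    rfl
  have hP := CfsgLib.Linear.card_PSL_mul (n := Fin 3) (F := ZMod 7)
  rw [hS, ZMod.card, Fintype.card_fin] at hP
  rw [SemidirectProduct.card, Nat.card_congr Multiplicative.toAdd, Nat.card_zmod]
  have h3 : Nat.card P7 * 3 = 5630688 := by
    rw [mul_comm, ← hP]
    rfl
  omega

theorem card_K6_eq : Nat.card K6 = 3753792 := by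
  haveI := card_K6.1
  exact le_antisymm card_K6.2 (card_W7 ▸ Nat.card_le_card_of_surjective _ theta_surjective)

theorem gen_eq (x : ℕ) (hx : x < 6) : ONanAct.gen x = ONanCert.g x := by
  interval_cases x <;> rfl

/-- The map onto the subgroup of the six nodes. -/
noncomputable def psi : K6 →* Cfsg.Spor.ON :=
  lift6 ONanCert.g fun w hw => ONanCert.prodw_words w (mem_words6.1 hw).1

theorem range_psi : psi.range = ONanCert.H := by
  rw [ONanCert.H_eq, MonoidHom.range_eq_map, ← closure_gK, lowSub, MonoidHom.map_closure,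
    Set.image_image]
  congr 1
  exact Set.image_congr fun x hx => lift6_gK _ _ hx

open ONanAct in
theorem exists_H_one (i : Fin 122760) (h1 : 1 ≤ i.val) (h2 : i.val < 58654) :
    ∃ z ∈ ONanCert.H, act z (1 : Fin 122760) = i := by
  obtain ⟨n, hn⟩ := i
  induction n using Nat.strong_induction_on with
  | _ n ih =>
    by_cases h0 : n = 1
    · subst h0; exact ⟨1, one_mem _, by rw [map_one act]; rfl⟩
    have h := allR_spec 16 0 downH n (Nat.zero_le _)
      (show n < 0 + 2 ^ 16 by have : n < 58654 := h2; omega)
    have hb : (Nat.blt 1 n && Nat.blt n 58654) = true := by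
      simp only [Bool.and_eq_true, Nat.blt_eq]
      exact ⟨by have : 1 ≤ n := h1; omega, h2⟩
    rw [okDownH, hb, cond_true, List.any_eq_true] at h
    obtain ⟨x, hx, h⟩ := h
    rw [force_eq, Bool.and_eq_true] at h
    have hlt : img x n < n := Nat.le_of_ble_eq_true h.2
    have hx6 : x < 6 := by simp at hx; omega
    obtain ⟨z, hz, hz1⟩ := ih (img x n) hlt (lt_trans hlt hn) (Nat.le_of_ble_eq_true h.1)
      (lt_trans hlt h2)
    refine ⟨gen x * z, mul_mem ?_ hz, ?_⟩
    · rw [gen_eq x hx6, ONanCert.H_eq]
      exact Subgroup.subset_closure ⟨x, hx6, rfl⟩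
    have e : (act (gen x))⁻¹ ⟨n, hn⟩ = (⟨img x n, lt_trans hlt hn⟩ : Fin 122760) := Fin.ext (by
      have h := act_word [x] (fun y hy => by rw [List.mem_singleton] at hy; omega) ⟨n, hn⟩
      rw [prodw, List.map_singleton, List.prod_singleton, walk_cons, walk_nil] at h
      exact h)
    rw [map_mul, Equiv.Perm.mul_apply, hz1, ← e, Equiv.Perm.inv_def, Equiv.apply_symm_apply]

open ONanAct in
theorem card_H_ge [Finite ONanCert.H] : 3753792 ≤ Nat.card ONanCert.H := by
  obtain ⟨hok, hnd, hlen⟩ := stabWords_ok
  simp only [List.all_eq_true, Bool.and_eq_true] at hok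
  have hlt : ∀ k : Fin stabWords.length, ∀ x ∈ stabWords[k], x < 6 := fun k x hx =>
    Nat.le_of_ble_eq_true ((hok _ (List.getElem_mem k.2)).2 x hx)
  have hlt8 : ∀ k : Fin stabWords.length, ∀ x ∈ stabWords[k], x < 8 := fun k x hx =>
    lt_trans (hlt k x hx) (by norm_num)
  have hmem : ∀ k : Fin stabWords.length, prodw gen stabWords[k] ∈ ONanCert.H := fun k => by
    rw [prodw_congr6 gen_eq (hlt k), ONanCert.H_eq]
    refine Subgroup.list_prod_mem _ fun y hy => ?_
    obtain ⟨x, hx, rfl⟩ := List.mem_map.1 hy
    exact Subgroup.subset_closure ⟨x, hlt k x hx, rfl⟩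
  choose z hz hz1 using fun k : Fin 58653 =>
    exists_H_one ⟨k + 1, by omega⟩ (Nat.le_add_left _ _) (by show (k : ℕ) + 1 < 58654; omega)
  let f : Fin 58653 × Fin stabWords.length → ONanCert.H := fun p =>
    ⟨z p.1 * (prodw gen stabWords[p.2])⁻¹, mul_mem (hz p.1) (inv_mem (hmem p.2))⟩
  have hone : ∀ k : Fin stabWords.length, act (prodw gen stabWords[k])⁻¹ (1 : Fin 122760) = 1 := by
    intro k
    rw [map_inv]
    exact Fin.ext ((act_word _ (hlt8 k) 1).trans
      (Nat.eq_of_beq_eq_true (hok _ (List.getElem_mem k.2)).1.2))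
  have hf : Function.Injective f := by
    rintro ⟨i, a⟩ ⟨j, b⟩ h
    have h' : z i * (prodw gen stabWords[a])⁻¹ = z j * (prodw gen stabWords[b])⁻¹ :=
      congrArg Subtype.val h
    have hij : i = j := by
      have e := congrArg (fun y => act y (1 : Fin 122760)) h'
      simp only [map_mul, Equiv.Perm.mul_apply, hone, hz1] at e
      exact Fin.ext (Nat.add_right_cancel (congrArg Fin.val e))
    subst hij
    have e := congrArg (fun y => (act y (21 : Fin 122760)).val) (mul_left_cancel h')
    simp only [map_inv, act_word _ (hlt8 a), act_word _ (hlt8 b)] at e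
    refine Prod.ext rfl (Fin.ext ?_)
    have ha : (a : ℕ) < (stabWords.map fun w => walk w 21).length := by simp
    have hb : (b : ℕ) < (stabWords.map fun w => walk w 21).length := by simp
    exact (hnd.getElem_inj_iff (hi := ha) (hj := hb)).mp (by simpa [List.getElem_map] using e)
  refine le_trans ?_ (Nat.card_le_card_of_injective f hf)
  rw [Nat.card_prod, Nat.card_fin, Nat.card_fin, hlen]

/-- The subgroup of the six nodes has a normal subgroup `L₃(7)` of index two. -/
theorem exists_normal_psl : ∃ N : Subgroup ONanCert.H, N.Normal ∧ N.index = 2 ∧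
    Nonempty (N ≃* P7) := by
  haveI := card_K6.1
  let r : K6 →* ONanCert.H := psi.codRestrict _ fun k => range_psi ▸ ⟨k, rfl⟩
  have hr : Function.Surjective r := by
    rintro ⟨y, hy⟩
    obtain ⟨k, rfl⟩ := range_psi.ge hy
    exact ⟨k, rfl⟩
  haveI : Finite ONanCert.H := Finite.of_surjective r hr
  have hrb : Function.Bijective r := (Nat.bijective_iff_surjective_and_card r).2 ⟨hr,
    le_antisymm (card_K6_eq ▸ card_H_ge) (Nat.card_le_card_of_surjective _ hr)⟩
  have htb : Function.Bijective theta := (Nat.bijective_iff_surjective_and_card theta).2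
    ⟨theta_surjective, by rw [card_K6_eq, card_W7]⟩
  let e : ONanCert.H ≃* W7 :=
    (MulEquiv.ofBijective r hrb).symm.trans (MulEquiv.ofBijective theta htb)
  let ρ : ONanCert.H →* Multiplicative (ZMod 2) := SemidirectProduct.rightHom.comp e.toMonoidHom
  refine ⟨ρ.ker, inferInstance, ?_, ?_⟩
  · rw [Subgroup.index_ker, MonoidHom.range_eq_top.2, Subgroup.card_top,
      Nat.card_congr Multiplicative.toAdd, Nat.card_zmod]
    exact SemidirectProduct.rightHom_surjective.comp e.surjective
  · let ι : P7 →* ONanCert.H := e.symm.toMonoidHom.comp SemidirectProduct.inl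
    have hι : Function.Injective ι := e.symm.injective.comp SemidirectProduct.inl_injective
    have hrange : ι.range = ρ.ker := by
      ext y
      rw [MonoidHom.mem_range, MonoidHom.mem_ker]
      constructor
      · rintro ⟨p, rfl⟩
        show SemidirectProduct.rightHom (e (e.symm _)) = 1
        rw [e.apply_symm_apply, SemidirectProduct.rightHom_inl]
      · intro hy
        refine ⟨(e y).left, e.injective ?_⟩
        show e (e.symm _) = _
        rw [e.apply_symm_apply]
        exact SemidirectProduct.ext rfl hy.symm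
    exact ⟨((MonoidHom.ofInjective hι).trans (MulEquiv.subgroupCongr hrange)).symm⟩

end CfsgLib.ONanHExact
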